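import Groth.Agent.Lib.Chev28.FlatDimOne
import Groth.Agent.Lib.AssPts.Flat
import Groth.Agent.Lib.Mero.Ass
import Groth.Agent.Lib.Ref1.DepthTwo

/-!
# Flatness over a regular base of dimension at most one
-/

universe u

open CategoryTheory Limits AlgebraicGeometry

namespace GrothLib.FinPush29

theorem flat_of_assPoints {X Y : Scheme.{u}} [IsLocallyNoetherian X] [IsLocallyNoetherian Y]
    (hreg : ∀ y : Y, IsRegularLocalRing (Y.presheaf.stalk y))
    (hdim : ∀ y : Y, ringKrullDim (Y.presheaf.stalk y) ≤ 1) (f : X ⟶ Y)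
    (h : ∀ x : X, Curv2.IsAssPoint (Coh.structureModule X) x → ringKrullDim (Y.presheaf.stalk (f x)) = 0) :
    Flat f := by
  refine (Flat.iff_flat_stalkMap f).mpr fun x => ?_
  have := hreg (f x)
  have := GrothLib.CMFree.isDomain_of_isRegularLocalRing (Y.presheaf.stalk (f x))
  have : IsPrincipalIdealRing (Y.presheaf.stalk (f x)) :=
    Ref1.isPrincipalIdealRing_of_isRegularLocalRing (hdim (f x))
  letI := (f.stalkMap x).hom.toAlgebra
  change Module.Flat (Y.presheaf.stalk (f x)) (X.presheaf.stalk x)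
  rw [IsDedekindDomain.flat_iff_torsion_eq_bot, eq_bot_iff]
  rintro s ⟨⟨r, hr⟩, hrs : r • s = 0⟩
  rw [Algebra.smul_def] at hrs
  by_contra hs
  obtain ⟨ξ, hξ, hass, hann, -⟩ := Chev28.exists_assPoint x s hs
  have h1 := hann _ hrs
  have h2 : (f.stalkMap ξ).hom ((Y.presheaf.stalkSpecializes (hξ.map f.continuous)).hom r) ∈
      IsLocalRing.maximalIdeal (X.presheaf.stalk ξ) := by
    have e := congrArg (fun φ => φ.hom r) (Scheme.Hom.stalkSpecializes_stalkMap f ξ x hξ)
    simp only [CommRingCat.hom_comp, RingHom.comp_apply] at e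
    rw [e]
    exact h1
  have hinj : Function.Injective (Y.presheaf.stalkSpecializes (hξ.map f.continuous)).hom := by
    letI := (Y.presheaf.stalkSpecializes (hξ.map f.continuous)).hom.toAlgebra
    haveI := CycDiv.isLocalization_stalkSpecializes (hξ.map f.continuous)
    exact IsLocalization.injective (M := (CycDiv.primeOf (hξ.map f.continuous)).primeCompl)
      (Y.presheaf.stalk (f ξ)) (Ideal.primeCompl_le_nonZeroDivisors _)
  have hfield : IsField (Y.presheaf.stalk (f ξ)) := by
    have := hreg (f ξ)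
    have := GrothLib.CMFree.isDomain_of_isRegularLocalRing (Y.presheaf.stalk (f ξ))
    have : Ring.KrullDimLE 0 (Y.presheaf.stalk (f ξ)) :=
      (ringKrullDimZero_iff_ringKrullDim_eq_zero).2 (h ξ ((GrothLib.AssPts.isAssPoint_structure_iff ξ).2 hass))
    exact Ring.KrullDimLE.isField_of_isDomain
  have hr0 : (Y.presheaf.stalkSpecializes (hξ.map f.continuous)).hom r ≠ 0 :=
    fun e => nonZeroDivisors.ne_zero hr (hinj (e.trans (map_zero _).symm))
  obtain ⟨v, hv⟩ := hfield.mul_inv_cancel hr0
  exact h2 ((IsUnit.of_mul_eq_one v hv).map (f.stalkMap ξ).hom)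

end GrothLib.FinPush29
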